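import Groth.Agent.EtSh.IntegralSplit
import Groth.Agent.FpqcDescent.Basic
import Mathlib.AlgebraicGeometry.Morphisms.FlatDescent
import Mathlib.RingTheory.Ideal.GoingUp

/-!
# Separated universally closed morphisms with finite fibres under an integral surjection are affine

If `h : X ⟶ Z` is surjective, `h ≫ q` integral, `q` separated with finite fibres, then `q` is affine.
No finiteness on `q` is assumed: étale locally on the base `X`, hence `Z`, splits.
-/

set_option autoImplicit false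
set_option backward.isDefEq.respectTransparency.types false
set_option linter.style.haveILetI false

universe u

open CategoryTheory CategoryTheory.Limits AlgebraicGeometry TopologicalSpace

namespace Groth.Agent.UCAffine

variable {X Z S : Scheme.{u}}

theorem eq_of_specializes_of_isIntegralHom (p : X ⟶ S) [IsIntegralHom p] [IsAffine S] {x y : X}
    (hxy : x ⤳ y) (he : p.base x = p.base y) : x = y := by
  haveI : IsAffine X := isAffine_of_isAffineHom p
  obtain ⟨φ, hφ⟩ := Spec.map_surjective (X.isoSpec.inv ≫ p ≫ S.isoSpec.hom)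
  have hint : φ.hom.IsIntegral := by
    rw [← IsIntegralHom.SpecMap_iff, hφ]
    infer_instance
  let x' : PrimeSpectrum Γ(X, ⊤) := X.isoSpec.hom.base x
  let y' : PrimeSpectrum Γ(X, ⊤) := X.isoSpec.hom.base y
  suffices x' = y' from (X.isoSpec.hom.homeomorph.injective : Function.Injective X.isoSpec.hom.base) this
  have hle : x'.asIdeal ≤ y'.asIdeal :=
    (PrimeSpectrum.le_iff_specializes x' y').2 (hxy.map X.isoSpec.hom.continuous)
  have hc : ∀ w : X, (Spec.map φ).base (X.isoSpec.hom.base w) = S.isoSpec.hom.base (p.base w) := fun w => by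
    have : X.isoSpec.hom ≫ Spec.map φ = p ≫ S.isoSpec.hom := by rw [hφ, Iso.hom_inv_id_assoc]
    exact congrArg (fun k : X ⟶ _ => k.base w) this
  have hq : (PrimeSpectrum.comap φ.hom x') = PrimeSpectrum.comap φ.hom y' :=
    (hc x).trans ((congrArg S.isoSpec.hom.base he).trans (hc y).symm)
  letI := φ.hom.toAlgebra
  haveI : Algebra.IsIntegral Γ(S, ⊤) Γ(X, ⊤) := ⟨hint⟩
  refine PrimeSpectrum.ext (hle.eq_or_lt.resolve_right fun hlt => ?_)
  exact (Ideal.IsIntegral.comap_lt_comap (R := Γ(S, ⊤)) hlt).ne (congrArg PrimeSpectrum.asIdeal hq)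

theorem exists_opens_fibre_singleton (h : X ⟶ Z) (q : Z ⟶ S) [IsAffine S] [IsSeparated q]
    [Surjective h] [IsIntegralHom (h ≫ q)] {s : S} (hfin : (q.base ⁻¹' {s}).Finite)
    {z : Z} (hz : q.base z = s) :
    ∃ V : Z.Opens, IsAffineOpen V ∧ z ∈ V ∧ ∀ w ∈ V, q.base w = s → w = z := by
  haveI : IsIntegralHom h := IsIntegralHom.of_comp h q
  let T : Set Z := q.base ⁻¹' {s} \ {z}
  have hz' : z ∉ closure T := by
    rw [← Set.biUnion_of_singleton T, (hfin.subset Set.sdiff_subset).closure_biUnion]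
    simp only [Set.mem_iUnion, not_exists]
    intro w hw hwz
    obtain ⟨x, rfl⟩ := h.surjective w
    obtain ⟨y, hxy, rfl⟩ := h.isClosedMap.specializingMap
      (specializes_iff_mem_closure.2 hwz)
    exact hw.2 (congrArg h.base
      (eq_of_specializes_of_isIntegralHom (h ≫ q) hxy ((hw.1 : q.base (h.base x) = s).trans hz.symm)))
  obtain ⟨V, hV, hzV, hVT⟩ := Opens.isBasis_iff_nbhd.1 Z.isBasis_affineOpens
    (U := ⟨(closure T)ᶜ, isClosed_closure.isOpen_compl⟩) hz'
  refine ⟨V, hV, hzV, fun w hw hws => ?_⟩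
  by_contra hne
  exact hVT hw (subset_closure ⟨hws, hne⟩)

theorem isAffineOpen_of_isClosed_le {Y : Scheme.{u}} {A C : Y.Opens} (hA : IsAffineOpen A) (hle : C ≤ A)
    (hC : IsClosed ((fun a : (A : Set Y) => (a : Y)) ⁻¹' (C : Set Y))) : IsAffineOpen C := by
  haveI : IsAffine A.toScheme := hA
  haveI : IsClosedImmersion (Y.homOfLE hle) := by
    refine IsClosedImmersion.of_isPreimmersion _ ?_
    convert! hC using 1
    rw [← Scheme.Hom.coe_opensRange, Scheme.opensRange_homOfLE]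
    rfl
  exact isAffine_of_isAffineHom (Y.homOfLE hle)

theorem isAffineOpen_preimage_inf {V : Scheme.{u}} [IsAffine S] (q : Z ⟶ S) (e : V ⟶ S)
    {W : Z.Opens} (hW : IsAffineOpen W) {U : V.Opens} (hU : IsAffineOpen U) :
    IsAffineOpen ((pullback.fst q e) ⁻¹ᵁ W ⊓ (pullback.snd q e) ⁻¹ᵁ U) := by
  haveI : IsAffine W.toScheme := hW
  haveI : IsAffine U.toScheme := hU
  let j := pullback.map (W.ι ≫ q) (U.ι ≫ e) q e W.ι U.ι (𝟙 S) (by simp) (by simp)
  have hj : j.opensRange = (pullback.fst q e) ⁻¹ᵁ W ⊓ (pullback.snd q e) ⁻¹ᵁ U := by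
    refine Opens.ext ?_
    rw [Scheme.Hom.coe_opensRange, Scheme.Pullback.range_map, Scheme.Opens.range_ι, Scheme.Opens.range_ι]
    rfl
  rw [← hj]
  exact isAffineOpen_opensRange j

theorem exists_etale_isAffine_pullback (h : X ⟶ Z) (q : Z ⟶ S) [IsAffine S] [IsSeparated q]
    [Surjective h] [IsIntegralHom (h ≫ q)] {s : S} (hfin : (q.base ⁻¹' {s}).Finite) :
    ∃ (V : Scheme.{u}) (e : V ⟶ S), Etale e ∧ IsAffine V ∧ s ∈ Set.range e.base ∧
      IsAffine (pullback q e) := by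
  classical
  haveI : IsIntegralHom h := IsIntegralHom.of_comp h q
  haveI : UniversallyClosed q := UniversallyClosed.of_comp_surjective h q
  haveI := hfin.to_subtype
  choose W hW hzW huniq using fun z : ↥(q.base ⁻¹' {s}) => exists_opens_fibre_singleton h q hfin z.2
  obtain ⟨V', e, he, ⟨s', hs'⟩, n, O, hOdisj, hOtop, hOk⟩ :=
    EtSh.exists_split_nhd (h ≫ q) (fun z => (h ⁻¹ᵁ W z).ι) s
      fun x hx => ⟨⟨h.base x, hx⟩, ⟨x, hzW ⟨h.base x, hx⟩⟩, rfl⟩
  choose i k hk using hOk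
  let h' : pullback (h ≫ q) e ⟶ pullback q e :=
    pullback.map _ _ _ _ h (𝟙 V') (𝟙 S) (by simp) (by simp)
  have hsq : IsPullback (pullback.fst (h ≫ q) e) h' h (pullback.fst q e) := by
    refine IsPullback.of_bot ?_ (pullback.lift_fst _ _ _).symm (IsPullback.of_hasPullback q e)
    rw [show h' ≫ pullback.snd q e = pullback.snd (h ≫ q) e from
      (pullback.lift_snd _ _ _).trans (Category.comp_id _)]
    exact IsPullback.of_hasPullback (h ≫ q) e
  haveI : IsIntegralHom h' := MorphismProperty.of_isPullback (P := @IsIntegralHom) hsq ‹_›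
  haveI : Surjective h' := MorphismProperty.of_isPullback (P := @Surjective) hsq ‹_›
  have hO : ∀ a, IsClosed (O a : Set ↥(pullback (h ≫ q) e)) := fun a => by
    refine ⟨?_⟩
    have : (O a : Set ↥(pullback (h ≫ q) e))ᶜ = ⋃ (b : Fin n) (_ : b ≠ a), (O b : Set _) := by
      ext x
      simp only [Set.mem_compl_iff, Set.mem_iUnion, SetLike.mem_coe, exists_prop]
      refine ⟨fun hx => ?_, fun ⟨b, hb, hxb⟩ hxa =>
        Set.disjoint_left.1 (TopologicalSpace.Opens.coe_disjoint.2 (hOdisj b a hb)) hxb hxa⟩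
      obtain ⟨b, hb⟩ := Opens.mem_iSup.1 (hOtop.ge (Opens.mem_top x))
      exact ⟨b, fun hba => hx (hba ▸ hb), hb⟩
    rw [this]
    exact isOpen_iUnion fun b => isOpen_iUnion fun _ => (O b).2
  let K : ↥(q.base ⁻¹' {s}) → Set ↥(pullback q e) :=
    fun z => h'.base '' ⋃ (a : Fin n) (_ : i a = z), (O a : Set _)
  have hK : ∀ z, IsClosed (K z) := fun z =>
    h'.isClosedMap _ (isClosed_iUnion_of_finite fun a => isClosed_iUnion_of_finite fun _ => hO a)
  have hKW : ∀ z, ∀ y ∈ K z, (pullback.fst q e).base y ∈ W z := by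
    rintro z _ ⟨x, hx, rfl⟩
    obtain ⟨a, rfl, ha⟩ := Set.mem_iUnion₂.1 hx
    have h1 := congrArg (fun m : (O a).toScheme ⟶ X => m.base ⟨x, ha⟩) (hk a)
    have h2 : (pullback.fst (h ≫ q) e).base x ∈ h ⁻¹ᵁ W (i a) := h1 ▸ ((k a).base ⟨x, ha⟩).2
    have h3 := congrArg (fun m : pullback (h ≫ q) e ⟶ Z => m.base x) hsq.w
    exact h3 ▸ h2
  have hKtop : ∀ y, ∃ z, y ∈ K z := fun y => by
    obtain ⟨x, rfl⟩ := h'.surjective y
    obtain ⟨a, ha⟩ := Opens.mem_iSup.1 (hOtop.ge (Opens.mem_top x))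
    exact ⟨i a, x, Set.mem_iUnion₂.2 ⟨a, rfl, ha⟩, rfl⟩
  let bad : Set ↥(pullback q e) :=
    ⋃ (p : ↥(q.base ⁻¹' {s}) × ↥(q.base ⁻¹' {s})) (_ : p.1 ≠ p.2), K p.1 ∩ K p.2
  have hbad : IsClosed bad := isClosed_iUnion_of_finite fun p =>
    isClosed_iUnion_of_finite fun _ => (hK _).inter (hK _)
  have hs'bad : s' ∉ (pullback.snd q e).base '' bad := by
    rintro ⟨y, hy, hys⟩
    obtain ⟨⟨z₁, z₂⟩, hne, hy1, hy2⟩ := Set.mem_iUnion₂.1 hy
    have hq : q.base ((pullback.fst q e).base y) = s := by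
      rw [← hs', ← hys]
      exact congrArg (fun m : pullback q e ⟶ S => m.base y) pullback.condition
    exact hne (Subtype.ext ((huniq z₁ _ (hKW z₁ y hy1) hq).symm.trans (huniq z₂ _ (hKW z₂ y hy2) hq)))
  obtain ⟨U, hU, hsU, hUbad⟩ : ∃ U : V'.Opens, IsAffineOpen U ∧ s' ∈ U ∧
      (U : Set V') ⊆ ((pullback.snd q e).base '' bad)ᶜ := by
    obtain ⟨U, hU, hsU, hle⟩ := Opens.isBasis_iff_nbhd.1 V'.isBasis_affineOpens
      (U := ⟨((pullback.snd q e).base '' bad)ᶜ, ((pullback.snd q e).isClosedMap _ hbad).isOpen_compl⟩)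
      hs'bad
    exact ⟨U, hU, hsU, hle⟩
  haveI : IsAffine U.toScheme := hU
  refine ⟨U, U.ι ≫ e, inferInstance, hU, ⟨⟨s', hsU⟩, hs'⟩, ?_⟩
  let T : (pullback q e).Opens := (pullback.snd q e) ⁻¹ᵁ U
  have hdisj : ∀ z₁ z₂, ∀ y ∈ T, y ∈ K z₁ → y ∈ K z₂ → z₁ = z₂ := fun z₁ z₂ y hy h1 h2 => by
    by_contra hne
    exact hUbad hy ⟨y, Set.mem_iUnion₂.2 ⟨(z₁, z₂), hne, h1, h2⟩, rfl⟩
  let C : ↥(q.base ⁻¹' {s}) → (pullback q e).Opens := fun z =>
    ⟨(T : Set _) ∩ (⋃ (w) (_ : w ≠ z), K w)ᶜ,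
      T.2.inter (isClosed_iUnion_of_finite fun w => isClosed_iUnion_of_finite fun _ => hK w).isOpen_compl⟩
  have hCK : ∀ z, (C z : Set _) = (T : Set _) ∩ K z := fun z => by
    ext y
    refine ⟨fun hy => ⟨hy.1, ?_⟩, fun hy => ⟨hy.1, ?_⟩⟩
    · obtain ⟨w, hw⟩ := hKtop y
      by_cases hwz : w = z
      · exact hwz ▸ hw
      · exact absurd (Set.mem_iUnion₂.2 ⟨w, hwz, hw⟩) hy.2
    · intro hy'
      obtain ⟨w, hwz, hw⟩ := Set.mem_iUnion₂.1 hy'
      exact hwz (hdisj w z y hy.1 hw hy.2)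
  have hCaff : ∀ z, IsAffineOpen (C z) := fun z => by
    refine isAffineOpen_of_isClosed_le (isAffineOpen_preimage_inf q e (hW z) hU) (fun y hy => ?_) ?_
    · rw [← SetLike.mem_coe, hCK z] at hy
      exact ⟨hKW z y hy.2, hy.1⟩
    · rw [hCK z, Set.preimage_inter]
      refine IsClosed.inter ?_ ((hK z).preimage continuous_subtype_val)
      convert isClosed_univ
      exact Set.eq_univ_of_forall fun y => y.2.2
  have key : ∀ F : Finset ↥(q.base ⁻¹' {s}), IsAffineOpen (F.sup C) := fun F => by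
    induction F using Finset.induction with
    | empty => rw [Finset.sup_empty]; exact isAffineOpen_bot _
    | insert a F ha ih =>
      rw [Finset.sup_insert]
      refine (hCaff a).sup_of_disjoint ih (Finset.disjoint_sup_right.2 fun b hb => ?_)
      rw [← TopologicalSpace.Opens.coe_disjoint, hCK a, hCK b, Set.disjoint_left]
      exact fun y hy hy' => ha (hdisj a b y hy.1 hy.2 hy'.2 ▸ hb)
  haveI : Fintype ↥(q.base ⁻¹' {s}) := Fintype.ofFinite _
  have hT : IsAffineOpen T := by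
    convert key Finset.univ
    refine Opens.ext (Set.ext fun y => ?_)
    simp only [Finset.sup_univ_eq_iSup, Opens.coe_iSup, Set.mem_iUnion, hCK]
    exact ⟨fun hy => (hKtop y).imp fun z hz => ⟨hy, hz⟩, fun ⟨z, hz⟩ => hz.1⟩
  let j := pullback.map q (U.ι ≫ e) q e (𝟙 Z) U.ι (𝟙 S) (by simp) (by simp)
  have hj : j.opensRange = T := by
    refine Opens.ext ?_
    rw [Scheme.Hom.coe_opensRange, Scheme.Pullback.range_map, Scheme.Opens.range_ι]
    simp [T]
  haveI : IsAffine j.opensRange.toScheme := by rw [hj]; exact hT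
  exact .of_isIso j.isoOpensRange.hom

theorem exists_opens_isAffineHom_restrict (h : X ⟶ Z) (q : Z ⟶ S) [IsAffine S] [IsSeparated q]
    [Surjective h] [IsIntegralHom (h ≫ q)] {s : S} (hfin : (q.base ⁻¹' {s}).Finite) :
    ∃ U : S.Opens, s ∈ U ∧ IsAffineHom (q ∣_ U) := by
  obtain ⟨V, e, he, hV, hsV, hA⟩ := exists_etale_isAffine_pullback h q hfin
  let U : S.Opens := ⟨Set.range e.base, e.isOpenMap.isOpen_range⟩
  refine ⟨U, hsV, ?_⟩
  let f : V ⟶ U.toScheme := IsOpenImmersion.lift U.ι e (by rw [Scheme.Opens.range_ι]; rfl)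
  have hfe : f ≫ U.ι = e := IsOpenImmersion.lift_fac _ _ _
  haveI : Surjective f := ⟨fun u => by
    obtain ⟨v, hv⟩ := u.2
    exact ⟨v, Subtype.ext ((congrArg (fun m : V ⟶ S => m.base v) hfe).trans hv)⟩⟩
  haveI : Etale (f ≫ U.ι) := by rw [hfe]; exact he
  haveI : Etale f := Etale.of_comp f U.ι
  haveI : QuasiCompact (f ≫ U.ι) := by rw [hfe]; infer_instance
  haveI : QuasiCompact f := QuasiCompact.of_comp f U.ι
  refine MorphismProperty.of_pullback_snd_of_descendsAlong (P := @IsAffineHom)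
    (Q := @Surjective ⊓ @Flat ⊓ @QuasiCompact) (f := q ∣_ U) (g := f)
    ⟨⟨inferInstance, inferInstance⟩, inferInstance⟩ ?_
  have hpb := (IsPullback.of_hasPullback (q ∣_ U) f).flip.paste_vert (isPullback_morphismRestrict q U)
  rw [hfe] at hpb
  haveI : IsAffine (pullback (q ∣_ U) f) := .of_isIso hpb.flip.isoPullback.hom
  infer_instance

theorem isAffineHom_of_integral_surjective (h : X ⟶ Z) (q : Z ⟶ S) [IsSeparated q]
    [Surjective h] [IsIntegralHom (h ≫ q)] (hfin : ∀ s : S, (q.base ⁻¹' {s}).Finite) :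
    IsAffineHom q := by
  haveI : IsIntegralHom h := IsIntegralHom.of_comp h q
  refine IsZariskiLocalAtTarget.of_forall_exists_morphismRestrict (P := @IsAffineHom) fun s => ?_
  obtain ⟨W, hW, hsW⟩ : ∃ W : S.Opens, IsAffineOpen W ∧ s ∈ W :=
    (Opens.isBasis_iff_nbhd.1 S.isBasis_affineOpens (U := ⊤) (Opens.mem_top s)).imp fun _ h => ⟨h.1, h.2.1⟩
  haveI : IsAffine W.toScheme := hW
  haveI : Surjective (h ∣_ q ⁻¹ᵁ W) := IsZariskiLocalAtTarget.restrict (P := @Surjective) ‹_› _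
  haveI : IsIntegralHom ((h ∣_ q ⁻¹ᵁ W) ≫ (q ∣_ W)) := by
    rw [← morphismRestrict_comp]
    exact IsZariskiLocalAtTarget.restrict (P := @IsIntegralHom) ‹_› _
  haveI : IsSeparated (q ∣_ W) := IsZariskiLocalAtTarget.restrict (P := @IsSeparated) ‹_› _
  obtain ⟨U, hsU, hU⟩ := exists_opens_isAffineHom_restrict (h ∣_ q ⁻¹ᵁ W) (q ∣_ W) (s := ⟨s, hsW⟩)
    (Set.Finite.subset ((hfin s).preimage Subtype.val_injective.injOn) fun z hz =>
      show q.base z.1 = s from (morphismRestrict_base_coe q W z).symm.trans (congrArg Subtype.val hz))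
  refine ⟨W.ι ''ᵁ U, ⟨⟨s, hsW⟩, hsU, rfl⟩, ?_⟩
  exact ((MorphismProperty.arrow_mk_iso_iff @IsAffineHom (morphismRestrictRestrict q W U)).1 hU)

end Groth.Agent.UCAffine
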